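import Cfsg.Agent.Lib.CT.RootSingular.Tools
import Mathlib.GroupTheory.PGroup

/-!
# The restriction to the `p`-core of a faithful character of absolute value one on singular elements
-/

set_option autoImplicit false
set_option linter.style.haveILetI false
set_option linter.unusedSectionVars false

namespace Cfsg.Agent.RootSingular

open Cfsg.Agent.CT

open scoped ComplexConjugate

universe u

variable {G : Type u} [Group G] [Fintype G] {p : ℕ} [hp : Fact p.Prime] {χ : G → ℂ}
  (hχ : IsIrrCharacter G χ) (hf : ∀ g : G, χ g = χ 1 → g = 1) (hb : 2 ≤ deg χ)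
  (hr : ∀ g : G, p ∣ orderOf g → ‖χ g‖ = 1)

include hχ hb hr in
theorem not_dvd_center {z : G} (hz : z ∈ Subgroup.center G) : ¬ p ∣ orderOf z := by
  intro h
  have h1 := hr z h
  rw [norm_of_center hχ hz] at h1
  have : deg χ = 1 := by exact_mod_cast h1
  omega

theorem dvd_orderOf_of_pgroup {P : Subgroup G} (hPp : IsPGroup p P) {x : G} (hx : x ∈ P)
    (hx1 : x ≠ 1) : p ∣ orderOf x := by
  obtain ⟨k, hk⟩ := (IsPGroup.iff_orderOf.mp hPp) ⟨x, hx⟩
  rw [Subgroup.orderOf_mk] at hk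
  rcases k with _ | k
  · exact absurd (orderOf_eq_one_iff.mp (hk.trans (pow_zero p))) hx1
  · exact hk ▸ dvd_pow_self p k.succ_ne_zero

variable (P : Subgroup G) [P.Normal] [Fintype P] (hPp : IsPGroup p P)

include hχ hb hr hPp in
theorem core_inf_center : P ⊓ Subgroup.center G = ⊥ := by
  rw [eq_bot_iff]
  rintro x ⟨hxP, hxZ⟩
  by_contra hx1
  exact not_dvd_center hχ hb hr hxZ (dvd_orderOf_of_pgroup hPp hxP fun h => hx1 h)

include hr hPp in
theorem sum_core : ∑ x : P, ‖χ x‖ ^ 2 + 1 = ‖χ 1‖ ^ 2 + (Nat.card P : ℝ) := by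
  classical
  rw [← Finset.add_sum_erase _ (fun x : P => ‖χ x‖ ^ 2) (Finset.mem_univ 1), OneMemClass.coe_one,
    Finset.sum_congr rfl (g := fun _ => (1 : ℝ)) fun x hx => by
      rw [hr x (dvd_orderOf_of_pgroup hPp x.2 fun h => (Finset.mem_erase.mp hx).1 (Subtype.ext h))]
      norm_num,
    Finset.sum_const, Finset.card_erase_of_mem (Finset.mem_univ _), Finset.card_univ,
    ← Nat.card_eq_fintype_card, nsmul_eq_mul, mul_one, Nat.cast_sub Nat.card_pos]
  push_cast
  ring

variable (hne : P ≠ ⊥)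

include hχ hf hb hr hPp hne in
/-- The restriction to the core is the sum of all nontrivial irreducible characters, all linear. -/
theorem base :
    ∃ φ : P → ℂ, IsIrrCharacter P φ ∧ φ 1 = 1 ∧ classInner (fun x : P => χ x) φ ≠ 0 ∧
      mult (fun x : P => χ x) φ = 1 ∧ (inertia P φ).index + 1 = Nat.card P ∧
      deg χ + 1 = Nat.card P ∧ (∀ ψ ∈ conjOrbit P φ, ψ ≠ fun _ => 1) ∧
      (∀ η : P → ℂ, IsIrrCharacter P η → η ≠ (fun _ => 1) → η ∈ conjOrbit P φ) ∧
      (∀ a b : P, a * b = b * a) := by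
  classical
  obtain ⟨φi, hφi⟩ := exists_constituent_restrict P hχ
  set φ : P → ℂ := (φi : P → ℂ)
  have hφ : IsIrrCharacter P φ := φi.2
  have hres := isCharacter_restrict P (isCharacter_of_isIrr hχ)
  set e := mult (fun x : P => χ x) φ with he
  set t := (inertia P φ).index with ht
  set d := deg φ with hd
  have hdeg : deg χ = e * t * d := clifford_mult P hχ hφ hφi
  -- the orbit avoids the trivial character
  have hntriv : ∀ ψ ∈ conjOrbit P φ, ψ ≠ fun _ => 1 := by
    intro ψ hψ h1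
    obtain ⟨g, hg⟩ := (mem_conjOrbit P).mp hψ
    have hφ1 : φ = fun _ => 1 := by
      have : conjFun P g⁻¹ ψ = φ := by rw [← hg, ← conjFun_mul, mul_inv_cancel, conjFun_one]
      rw [← this, h1]; rfl
    apply hne
    rw [eq_bot_iff]
    intro x hx
    refine Subgroup.mem_bot.mpr (hf x ?_)
    have h := clifford P hχ hφ hφi
    have hx' := congrFun h ⟨x, hx⟩
    have h1' := congrFun h 1
    have hall : ∀ η ∈ conjOrbit P φ, ∀ y : P, η y = 1 := by
      intro η hη y
      obtain ⟨k, rfl⟩ := (mem_conjOrbit P).mp hη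
      show φ _ = 1
      rw [hφ1]
    simp only [Pi.smul_apply, Finset.sum_apply, OneMemClass.coe_one] at hx' h1'
    rw [hx', h1', Finset.sum_congr rfl fun η hη => hall η hη ⟨x, hx⟩,
      Finset.sum_congr rfl fun η hη => hall η hη 1]
  -- degrees in the orbit
  have horb : ∀ ψ ∈ conjOrbit P φ, IsIrrCharacter P ψ ∧ deg ψ = d := by
    intro ψ hψ
    obtain ⟨g, rfl⟩ := (mem_conjOrbit P).mp hψ
    refine ⟨isIrrCharacter_conjFun P g hφ, ?_⟩
    have : conjFun P g φ 1 = φ 1 := congrArg φ (Subtype.ext (by simp))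
    simp only [deg, hd, this]
  set A : Finset (P → ℂ) := Finset.univ.image (Subtype.val : IrrCharacter P → P → ℂ) with hA
  set B : Finset (P → ℂ) := insert (fun _ => 1) (conjOrbit P φ) with hB
  have hBA : B ⊆ A := by
    intro ψ hψ
    simp only [hA, Finset.mem_image, Finset.mem_univ, true_and]
    rcases Finset.mem_insert.mp hψ with rfl | hψ'
    · exact ⟨trivIrr P, rfl⟩
    · exact ⟨⟨ψ, (horb ψ hψ').1⟩, rfl⟩
  have hsumA : ∑ ψ ∈ A, deg ψ ^ 2 = Nat.card P := by
    rw [hA, Finset.sum_image fun a _ b _ h => Subtype.ext h]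
    have h := sum_degree_sq (G := P)
    rw [Finset.sum_congr rfl (g := fun η : IrrCharacter P => ((deg (η : P → ℂ) ^ 2 : ℕ) : ℂ))
      fun η _ => by rw [deg_eq (isCharacter_of_isIrr η.2)]; push_cast; rfl] at h
    exact_mod_cast h
  have hsumB : ∑ ψ ∈ B, deg ψ ^ 2 = 1 + t * d ^ 2 := by
    rw [hB, Finset.sum_insert fun h => hntriv _ h rfl,
      Finset.sum_congr rfl (g := fun _ => d ^ 2) fun ψ hψ => by rw [(horb ψ hψ).2],
      Finset.sum_const, card_conjOrbit, smul_eq_mul]
    simp [deg, ← ht]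
  have hlt : t * d ^ 2 < Nat.card P := by
    have := Finset.sum_le_sum_of_subset (f := fun ψ => deg ψ ^ 2) hBA
    omega
  obtain ⟨n, hn⟩ := hPp.exists_card_eq
  have hdq : d ∣ Nat.card P := by
    obtain ⟨m, ρ, hρ, hρe⟩ := hφ
    haveI := hρ
    rw [hd, ← hρe, deg_eq_finrank]
    exact finrank_dvd_card ρ
  have heq : (e * t * d) ^ 2 + Nat.card P = Nat.card P * (e ^ 2 * t) + 1 := by
    have h1 := sum_norm_sq (fun x : P => χ x) (norm_clifford P hχ hφ hφi)
    have h2 := sum_core hr P hPp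
    rw [h1, deg_eq (isCharacter_of_isIrr hχ), Complex.norm_natCast, hdeg] at h2
    exact_mod_cast h2.symm
  obtain ⟨he1, hd1, ht1⟩ := arith hp.out hn hdq hlt heq (hdeg ▸ hb)
  have hlinB : ∀ ψ ∈ B, deg ψ = 1 := by
    intro ψ hψ
    rcases Finset.mem_insert.mp hψ with rfl | hψ'
    · simp [deg]
    · rw [(horb ψ hψ').2, hd1]
  have hAB : A ⊆ B := by
    intro ψ hψ
    by_contra hψB
    have hlt' : ∑ x ∈ B, deg x ^ 2 < ∑ x ∈ A, deg x ^ 2 := by
      refine Finset.sum_lt_sum_of_subset hBA hψ hψB ?_ fun _ _ _ => Nat.zero_le _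
      obtain ⟨η, -, rfl⟩ := Finset.mem_image.mp hψ
      exact pow_pos (deg_pos η.2) 2
    rw [hsumA, hsumB, hd1, one_pow, mul_one] at hlt'
    omega
  refine ⟨φ, hφ, by rw [deg_eq (isCharacter_of_isIrr hφ), ← hd, hd1, Nat.cast_one], hφi, he1, ht1,
    by rw [hdeg, he1, hd1, one_mul, mul_one, ht1], hntriv, ?_, ?_⟩
  · intro η hη h1
    have : η ∈ A := Finset.mem_image.mpr ⟨⟨η, hη⟩, Finset.mem_univ _, rfl⟩
    exact (Finset.mem_insert.mp (hAB this)).resolve_left h1
  · refine comm_iff_all_linear.mpr fun η => ?_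
    have := hlinB _ (hAB (Finset.mem_image.mpr ⟨η, Finset.mem_univ _, rfl⟩))
    rw [deg_eq (isCharacter_of_isIrr η.2), this, Nat.cast_one]

end Cfsg.Agent.RootSingular
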