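import Mathlib

/-!
# Groups with a self-centralizing four-group modulo an odd centre
-/

set_option autoImplicit false
set_option linter.style.haveILetI false

namespace Cfsg.Agent.RootSingular

open scoped commutatorElement

universe u v

variable {G : Type u} [Group G] [Finite G]

/-- An element of order three moving a four-group fixes only the identity there. -/
theorem no_fix (P : Subgroup G) [hn : P.Normal] (hq : Nat.card P = 4) {s : G} (hs : s ^ 3 = 1)
    (hsC : s ∉ Subgroup.centralizer (P : Set G)) {x : G} (hx : x ∈ P) (hxs : s * x = x * s) :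
    x = 1 := by
  classical
  by_contra hx1
  apply hsC
  rw [Subgroup.mem_centralizer_iff]
  intro y hy
  by_cases hy1 : y = 1
  · simp [hy1]
  by_cases hyx : y = x
  · subst hyx; exact hxs.symm
  haveI := Fintype.ofFinite P
  set c : P → P := fun a => ⟨s * a * s⁻¹, hn.conj_mem _ a.2 s⟩ with hc
  have hinj : Function.Injective c := fun a b h =>
    Subtype.ext (mul_left_cancel (mul_right_cancel (congrArg (fun w : P => (w : G)) h)))
  set X : P := ⟨x, hx⟩
  set Y : P := ⟨y, hy⟩
  have hcX : c X = X := Subtype.ext (by simp [hc, X, hxs])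
  have hc1 : c 1 = 1 := Subtype.ext (by simp [hc])
  set S : Finset P := (Finset.univ.erase 1).erase X with hS
  have hScard : S.card = 2 := by
    rw [hS, Finset.card_erase_of_mem (by simp [X, Subtype.ext_iff, hx1]),
      Finset.card_erase_of_mem (Finset.mem_univ _), Finset.card_univ, ← Nat.card_eq_fintype_card, hq]
  have hmem : ∀ a ∈ S, c a ∈ S := by
    intro a ha
    simp only [hS, Finset.mem_erase, Finset.mem_univ, and_true] at ha ⊢
    exact ⟨fun h => ha.1 (hinj (h.trans hcX.symm)), fun h => ha.2 (hinj (h.trans hc1.symm))⟩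
  have hY : Y ∈ S := by
    simp [hS, X, Y, Subtype.ext_iff, hy1, hyx]
  have h3 : c (c (c Y)) = Y := by
    refine Subtype.ext ?_
    show s * (s * (s * y * s⁻¹) * s⁻¹) * s⁻¹ = y
    calc _ = s ^ 3 * y * (s ^ 3)⁻¹ := by simp only [pow_succ, pow_zero, one_mul, mul_inv_rev, mul_assoc]
      _ = y := by rw [hs]; simp
  have hfix : c Y = Y := by
    by_contra hne
    have h2 : c (c Y) ≠ c Y := fun h => hne (hinj h)
    have h1 : c (c Y) ≠ Y := by
      intro h
      apply hne
      conv_rhs => rw [← h3, h]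
    have hsub : ({Y, c Y, c (c Y)} : Finset P) ⊆ S := by
      intro a ha
      simp only [Finset.mem_insert, Finset.mem_singleton] at ha
      rcases ha with rfl | rfl | rfl
      exacts [hY, hmem _ hY, hmem _ (hmem _ hY)]
    have := Finset.card_le_card hsub
    rw [hScard, Finset.card_insert_of_notMem (by simp [Ne.symm hne, Ne.symm h1]),
      Finset.card_insert_of_notMem (by simp [Ne.symm h2]), Finset.card_singleton] at this
    omega
  have he : s * y * s⁻¹ = y := congrArg (fun w : P => (w : G)) hfix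
  exact (mul_inv_eq_iff_eq_mul.mp he).symm

theorem sq_eq_commutator : ∀ σ : Equiv.Perm (Fin 3),
    ∃ a b : Equiv.Perm (Fin 3), σ * σ = a * b * a⁻¹ * b⁻¹ := by
  decide +kernel

/-- An odd central subgroup modulo which the order is 24 meets the commutator subgroup trivially. -/
theorem commutator_inf_center (hidx : (Subgroup.center G).index = 24)
    (hodd : Odd (Nat.card (Subgroup.center G))) : commutator G ⊓ Subgroup.center G = ⊥ := by
  classical
  set Z := Subgroup.center G with hZ
  by_contra hne
  haveI := (Subgroup.nontrivial_iff_ne_bot _).mpr hne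
  obtain ⟨l, hl, hdvd⟩ := Nat.exists_prime_and_dvd
    (Finite.one_lt_card (α := (commutator G ⊓ Z : Subgroup G))).ne'
  haveI := Fact.mk hl
  obtain ⟨z, hz⟩ := exists_prime_orderOf_dvd_card' l hdvd
  have hzG : orderOf (z : G) = l := by rw [Subgroup.orderOf_coe, hz]
  have hzZ : (z : G) ∈ Z := z.2.2
  have hl2 : l ≠ 2 := by
    intro h
    have h2 : orderOf (z : G) ∣ Nat.card Z :=
      Subgroup.orderOf_coe (⟨z, hzZ⟩ : Z) ▸ orderOf_dvd_natCard _
    rw [hzG, h] at h2
    exact (Nat.not_even_iff_odd.mpr hodd) (even_iff_two_dvd.mpr h2)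
  obtain ⟨L⟩ := (inferInstance : Nonempty (Sylow l G))
  have hzL : (z : G) ∈ (L : Subgroup G) := by
    haveI : (Subgroup.zpowers (z : G)).Normal := ⟨fun a ha g => by
      have : a ∈ Z := (Subgroup.zpowers_le.mpr hzZ) ha
      rw [Subgroup.mem_center_iff.mp this g, mul_inv_cancel_right]
      exact ha⟩
    exact (IsPGroup.of_card (n := 1) (by rw [Nat.card_zpowers, hzG, pow_one])).le_sylow_of_normal L
      (Subgroup.mem_zpowers _)
  -- the quotient of `L` by its central part has order dividing three
  set K : Subgroup (L : Subgroup G) := Z.subgroupOf (L : Subgroup G) with hK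
  have hK3 : Nat.card (↥(L : Subgroup G) ⧸ K) ∣ 3 := by
    have h24 : Nat.card (↥(L : Subgroup G) ⧸ K) ∣ 24 := by
      rw [← Subgroup.index_eq_card, hK]
      exact hidx ▸ Subgroup.relIndex_dvd_index_of_normal Z (L : Subgroup G)
    obtain ⟨k, hk⟩ := (L.2.to_quotient K).exists_card_eq
    rw [hk] at h24 ⊢
    have hcop : Nat.Coprime (l ^ k) 8 := by
      refine Nat.Coprime.pow_left k ?_
      rw [show 8 = 2 ^ 3 from rfl]
      exact ((Nat.coprime_primes hl Nat.prime_two).mpr hl2).pow_right 3
    exact hcop.dvd_of_dvd_mul_left (show l ^ k ∣ 8 * 3 from h24)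
  haveI : IsCyclic (↥(L : Subgroup G) ⧸ K) := by
    rcases (Nat.dvd_prime Nat.prime_three).mp hK3 with h | h
    · haveI : Subsingleton (↥(L : Subgroup G) ⧸ K) := (Nat.card_eq_one_iff_unique.mp h).1
      infer_instance
    · haveI := Fact.mk Nat.prime_three
      exact isCyclic_of_prime_card h
  have hab : ∀ a b : (L : Subgroup G), a * b = b * a := fun a b =>
    (commGroupOfCyclicCenterQuotient (QuotientGroup.mk' K) (by
      rw [QuotientGroup.ker_mk']
      intro a ha
      exact Subgroup.mem_center_iff.mpr fun b =>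
        Subtype.ext (Subgroup.mem_center_iff.mp (Subgroup.mem_subgroupOf.mp ha) b))).mul_comm a b
  letI : CommGroup (L : Subgroup G) :=
    { (inferInstance : Group (L : Subgroup G)) with mul_comm := hab }
  let ϕ : (L : Subgroup G) →* (L : Subgroup G) := MonoidHom.id _
  have key : ∀ (k : ℕ) (g₀ : G), g₀⁻¹ * (z : G) ^ k * g₀ ∈ (L : Subgroup G) →
      g₀⁻¹ * (z : G) ^ k * g₀ = (z : G) ^ k := by
    intro k g₀ _
    rw [mul_assoc, ← Subgroup.mem_center_iff.mp (Subgroup.pow_mem _ hzZ k) g₀, inv_mul_cancel_left]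
  have h1 : MonoidHom.transfer ϕ (z : G) = 1 :=
    MonoidHom.mem_ker.mp (Abelianization.commutator_subset_ker _ z.2.1)
  rw [MonoidHom.transfer_eq_pow ϕ (z : G) key] at h1
  have h2 : (z : G) ^ (L : Subgroup G).index = 1 := congrArg (fun w : (L : Subgroup G) => (w : G)) h1
  have h3 := orderOf_dvd_of_pow_eq_one h2
  rw [hzG] at h3
  exact L.not_dvd_index h3

/-- Recognition of `Sym(4) × Z`. -/
theorem exists_s4 (P : Subgroup G) [hn : P.Normal] (hq : Nat.card P = 4)
    (hcent : Subgroup.centralizer (P : Set G) = P ⊔ Subgroup.center G)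
    (hPZ : P ⊓ Subgroup.center G = ⊥) (hodd : Odd (Nat.card (Subgroup.center G)))
    (hPG : P ≤ commutator G) {Ω : Type v} [Finite Ω] (hΩ : Nat.card Ω = 3)
    (f : G →* Equiv.Perm Ω) (hker : f.ker = Subgroup.centralizer (P : Set G))
    (h6 : f.ker.index = 6) :
    ∃ H : Subgroup G, Nonempty (↥H ≃* Equiv.Perm (Fin 4)) ∧ H ⊓ Subgroup.center G = ⊥ ∧
      H ⊔ Subgroup.center G = ⊤ := by
  classical
  haveI := Fintype.ofFinite Ω
  set Z := Subgroup.center G with hZ
  set m := Nat.card Z
  have hZrel : Z.relIndex P = 4 := by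
    rw [← Subgroup.inf_relIndex_right, inf_comm, hPZ, Subgroup.relIndex_bot_left, hq]
  have hidx : Z.index = 24 := by
    have hle : Z ≤ f.ker := hker ▸ hcent ▸ le_sup_right
    rw [← Subgroup.relIndex_mul_index hle, h6, hker, hcent, Subgroup.relIndex_sup_right, hZrel]
  have hGZ := commutator_inf_center hidx hodd
  let H : Subgroup G :=
    { carrier := {g | g * g ∈ commutator G}
      one_mem' := by simpa using (commutator G).one_mem
      mul_mem' := fun {a b} ha hb => by
        simp only [Set.mem_ofPred_eq] at ha hb ⊢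
        rw [← Abelianization.ker_of, MonoidHom.mem_ker] at ha hb ⊢
        simp only [map_mul] at ha hb ⊢
        rw [mul_mul_mul_comm, ha, hb, one_mul]
      inv_mem' := fun {a} ha => by
        simp only [Set.mem_ofPred_eq] at ha ⊢
        simpa using (commutator G).inv_mem ha }
  have hmemH : ∀ g, g ∈ H ↔ g * g ∈ commutator G := fun g => Iff.rfl
  have hinf : H ⊓ Z = ⊥ := by
    rw [eq_bot_iff]
    rintro z ⟨hzH, hzZ⟩
    have h2 : z * z = 1 := by
      have : z * z ∈ commutator G ⊓ Z := ⟨hzH, Z.mul_mem hzZ hzZ⟩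
      rwa [hGZ, Subgroup.mem_bot] at this
    have hm : z ^ m = 1 := congrArg (fun w : Z => (w : G)) (pow_card_eq_one' (x := (⟨z, hzZ⟩ : Z)))
    obtain ⟨j, hj⟩ := hodd
    rw [show m = 2 * j + 1 from hj, pow_succ, pow_mul, pow_two, h2, one_pow, one_mul] at hm
    exact hm
  have hsup : H ⊔ Z = ⊤ := by
    rw [eq_top_iff]
    intro g _
    have hsq : g * g ∈ commutator G ⊔ Z := by
      have e : Nonempty (Ω ≃ Fin 3) := ⟨(Fintype.equivFin Ω).trans
        (finCongr (by rw [← Nat.card_eq_fintype_card, hΩ]))⟩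
      obtain ⟨e⟩ := e
      let E : Equiv.Perm Ω ≃* Equiv.Perm (Fin 3) := Equiv.permCongrHom e
      obtain ⟨a, b, hab⟩ := sq_eq_commutator (E (f g))
      have hsurj : Function.Surjective f := by
        rw [← MonoidHom.range_eq_top]
        refine Subgroup.eq_top_of_card_eq _ ?_
        rw [← Subgroup.index_ker, h6, Nat.card_perm, hΩ]
        rfl
      obtain ⟨a', ha'⟩ := hsurj (E.symm a)
      obtain ⟨b', hb'⟩ := hsurj (E.symm b)
      have hk : (g * g) * ⁅a', b'⁆⁻¹ ∈ f.ker := by
        rw [MonoidHom.mem_ker, map_mul, map_inv, mul_inv_eq_one]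
        apply E.injective
        simp only [map_mul, map_commutatorElement, ha', hb', MulEquiv.apply_symm_apply]
        rw [hab, commutatorElement_def]
      rw [hker, hcent] at hk
      have hc : ⁅a', b'⁆ ∈ commutator G :=
        Subgroup.commutator_mem_commutator (Subgroup.mem_top _) (Subgroup.mem_top _)
      have h2 := (commutator G ⊔ Z).mul_mem (sup_le_sup_right hPG Z hk) (Subgroup.mem_sup_left hc)
      rwa [inv_mul_cancel_right] at h2
    obtain ⟨h, hh, z, hz, hhz⟩ := Subgroup.mem_sup_of_normal_right.mp hsq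
    obtain ⟨j, hj⟩ := hodd
    set w := z ^ (j + 1) with hw
    have hwZ : w ∈ Z := Z.pow_mem hz _
    have hww : w * w = z := by
      have hm : z ^ m = 1 := congrArg (fun v : Z => (v : G)) (pow_card_eq_one' (x := (⟨z, hz⟩ : Z)))
      rw [hw, ← pow_add, show j + 1 + (j + 1) = m + 1 by rw [show m = 2 * j + 1 from hj]; ring,
        pow_succ, hm, one_mul]
    have hgw : g * w⁻¹ ∈ H := by
      rw [hmemH]
      have hcm : w⁻¹ * g = g * w⁻¹ := (Subgroup.mem_center_iff.mp (Z.inv_mem hwZ) g).symm
      have : g * w⁻¹ * (g * w⁻¹) = h := by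
        calc g * w⁻¹ * (g * w⁻¹) = g * (w⁻¹ * g) * w⁻¹ := by group
          _ = g * g * (w * w)⁻¹ := by rw [hcm]; group
          _ = h := by rw [hww, ← hhz, mul_inv_cancel_right]
      rw [this]; exact hh
    have := (H ⊔ Z).mul_mem (Subgroup.mem_sup_left hgw) (Subgroup.mem_sup_right hwZ)
    simpa using this
  refine ⟨H, ?_, hinf, hsup⟩
  have hH24 : Nat.card H = 24 := by
    have h1 : Z.relIndex (H ⊔ Z) = Z.relIndex H := Subgroup.relIndex_sup_right H Z
    rw [hsup, Subgroup.relIndex_top_right, hidx] at h1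
    rw [h1, ← Subgroup.inf_relIndex_right, inf_comm, hinf, Subgroup.relIndex_bot_left]
  have hPH : P ≤ H := fun x hx => (commutator G).mul_mem (hPG hx) (hPG hx)
  haveI := Fact.mk Nat.prime_three
  set P' : Subgroup H := P.subgroupOf H with hP'
  have hcen : ∀ h : H, (h : G) ∈ Subgroup.centralizer (P : Set G) → h ∈ P' := by
    intro h hh
    rw [hcent] at hh
    obtain ⟨x, hx, z, hz, hxz⟩ := Subgroup.mem_sup_of_normal_right.mp hh
    have hzH : z ∈ H := by
      have := H.mul_mem (H.inv_mem (hPH hx)) (hxz ▸ h.2 : x * z ∈ H)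
      simpa using this
    have hz1 : z = 1 := by
      have : z ∈ H ⊓ Z := ⟨hzH, hz⟩
      rwa [hinf, Subgroup.mem_bot] at this
    rw [hz1, mul_one] at hxz
    exact Subgroup.mem_subgroupOf.mpr (hxz ▸ hx)
  have hfact : (Nat.card H).factorization 3 = 1 := by
    rw [hH24, show 24 = 2 ^ 3 * 3 from rfl,
      Nat.factorization_mul (by norm_num) (by norm_num), Nat.Prime.factorization_pow Nat.prime_two,
      Nat.Prime.factorization Nat.prime_three]
    simp
  have hScard : ∀ S : Sylow 3 H, Nat.card S = 3 := fun S => by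
    rw [Sylow.card_eq_multiplicity, hfact, pow_one]
  -- elements of `P'` normalising a Sylow 3-subgroup are trivial
  have hnorm : ∀ (S : Sylow 3 H) (x : H), x ∈ P' →
      x ∈ Subgroup.normalizer ((S : Subgroup H) : Set H) → x = 1 := by
    intro S x hx hxS
    haveI := (Subgroup.nontrivial_iff_ne_bot (S : Subgroup H)).mpr fun h => by
      have := hScard S
      rw [show Nat.card S = Nat.card (S : Subgroup H) from rfl, h, Subgroup.card_bot] at this
      omega
    obtain ⟨s, hs⟩ := exists_ne (1 : (S : Subgroup H))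
    have hs3 : orderOf (s : H) = 3 := by
      rw [Subgroup.orderOf_coe]
      have h3 := orderOf_dvd_natCard s
      rw [show Nat.card (S : Subgroup H) = 3 from hScard S] at h3
      exact ((Nat.dvd_prime Nat.prime_three).mp h3).resolve_left
        fun h => hs (orderOf_eq_one_iff.mp h)
    have hint : P' ⊓ (S : Subgroup H) = ⊥ := by
      refine disjoint_iff.mp (Subgroup.disjoint_of_coprime_natCard ?_)
      rw [show Nat.card (S : Subgroup H) = 3 from hScard S, hP',
        Nat.card_congr (Subgroup.subgroupOfEquivOfLe hPH).toEquiv, hq]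
      norm_num
    have hsC : (s : H) ∈ Subgroup.centralizer ({x} : Set H) := by
      rw [Subgroup.mem_centralizer_singleton_iff]
      have h1 : x * s * x⁻¹ * (s : H)⁻¹ ∈ P' ⊓ (S : Subgroup H) := by
        refine ⟨?_, (S : Subgroup H).mul_mem ((Subgroup.mem_normalizer_iff.mp hxS _).mp s.2)
          ((S : Subgroup H).inv_mem s.2)⟩
        haveI : P'.Normal := hn.subgroupOf H
        rw [mul_assoc, mul_assoc, ← mul_assoc (s : H)]
        exact P'.mul_mem hx (‹P'.Normal›.conj_mem _ (P'.inv_mem hx) _)
      rw [hint, Subgroup.mem_bot, mul_inv_eq_one, mul_inv_eq_iff_eq_mul] at h1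
      exact h1.symm
    have hsG : ((s : H) : G) ^ 3 = 1 := by
      rw [← SubmonoidClass.coe_pow]
      exact congrArg (fun w : H => (w : G)) (orderOf_dvd_iff_pow_eq_one.mp hs3.dvd)
    have hnc : ((s : H) : G) ∉ Subgroup.centralizer (P : Set G) := fun h => by
      have : (s : H) ∈ P' ⊓ (S : Subgroup H) := ⟨hcen _ h, s.2⟩
      rw [hint, Subgroup.mem_bot] at this
      exact hs (Subtype.ext this)
    refine Subtype.ext (no_fix P hq hsG hnc (Subgroup.mem_subgroupOf.mp hx) ?_)
    exact congrArg (fun w : H => (w : G)) (Subgroup.mem_centralizer_singleton_iff.mp hsC)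
  haveI : P'.Normal := hn.subgroupOf H
  have hP'card : Nat.card P' = 4 := by
    rw [hP', Nat.card_congr (Subgroup.subgroupOfEquivOfLe hPH).toEquiv, hq]
  have hn4 : Nat.card (Sylow 3 H) = 4 := by
    obtain ⟨S⟩ := (inferInstance : Nonempty (Sylow 3 H))
    have h8 : Nat.card (Sylow 3 H) ∣ 8 := by
      have hi : (S : Subgroup H).index = 8 := by
        have := (S : Subgroup H).card_mul_index
        rw [show Nat.card (S : Subgroup H) = 3 from hScard S, hH24] at this
        omega
      exact hi ▸ S.card_dvd_index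
    have h1 := card_sylow_modEq_one 3 H
    have hne : Nat.card (Sylow 3 H) ≠ 1 := by
      intro h
      haveI : Subsingleton (Sylow 3 H) := (Nat.card_eq_one_iff_unique.mp h).1
      haveI := S.normal_of_subsingleton
      haveI := (Subgroup.nontrivial_iff_ne_bot P').mpr fun h => by
        rw [h, Subgroup.card_bot] at hP'card; omega
      obtain ⟨x, hx⟩ := exists_ne (1 : P')
      exact hx (Subtype.ext (hnorm S x x.2 (by rw [Subgroup.normalizer_eq_top]; trivial)))
    have hle := Nat.le_of_dvd (by norm_num) h8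
    unfold Nat.ModEq at h1
    interval_cases Nat.card (Sylow 3 H) <;> simp_all
  haveI := Fintype.ofFinite (Sylow 3 H)
  let φ : H →* Equiv.Perm (Sylow 3 H) := MulAction.toPermHom H (Sylow 3 H)
  have hinj : Function.Injective φ := by
    rw [← MonoidHom.ker_eq_bot_iff, eq_bot_iff]
    intro n hn'
    have hdis : Disjoint φ.ker P' := by
      rw [disjoint_iff, eq_bot_iff]
      rintro x ⟨hx, hxP⟩
      obtain ⟨S⟩ := (inferInstance : Nonempty (Sylow 3 H))
      exact hnorm S x hxP (Sylow.smul_eq_iff_mem_normalizer.mp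
        (Equiv.congr_fun (MonoidHom.mem_ker.mp hx) S))
    have hnC : (n : G) ∈ Subgroup.centralizer (P : Set G) := by
      rw [Subgroup.mem_centralizer_iff]
      intro x hx
      exact (congrArg (fun w : H => (w : G)) (Subgroup.commute_of_normal_of_disjoint φ.ker P'
        inferInstance inferInstance hdis n ⟨x, hPH hx⟩ hn' (Subgroup.mem_subgroupOf.mpr hx))).symm
    exact hdis.le_bot ⟨hn', hcen n hnC⟩
  have hcard : Nat.card H = Nat.card (Equiv.Perm (Sylow 3 H)) := by
    rw [Nat.card_perm, hn4, hH24]; rfl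
  exact ⟨(MulEquiv.ofBijective φ ((Nat.bijective_iff_injective_and_card _).mpr ⟨hinj, hcard⟩)).trans
    (Equiv.permCongrHom ((Fintype.equivFin _).trans
      (finCongr (by rw [← Nat.card_eq_fintype_card, hn4]))))⟩

end Cfsg.Agent.RootSingular
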