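import Cfsg.Agent.Lib.CT.RootSingular.Struct
import Cfsg.Agent.Lib.CT.RootSingular.S4
import Mathlib.RingTheory.RootsOfUnity.EnoughRootsOfUnity

/-!
# Faithful characters of absolute value one on singular elements: the two cases
-/

set_option autoImplicit false
set_option linter.style.haveILetI false
set_option linter.unusedSectionVars false

namespace Cfsg.Agent.RootSingular

open Cfsg.Agent.CT

open scoped ComplexConjugate

universe u

variable {G : Type u} [Group G] [Fintype G] {p : ℕ} [hp : Fact p.Prime] {χ : G → ℂ}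
  (hχ : IsIrrCharacter G χ) (hf : ∀ g : G, χ g = χ 1 → g = 1) (hb : 2 ≤ deg χ)
  (hr : ∀ g : G, p ∣ orderOf g → ‖χ g‖ = 1)
  (P : Subgroup G) [P.Normal] [Fintype P] (hPp : IsPGroup p P) (hne : P ≠ ⊥)
  (hmax : ∀ N : Subgroup G, N.Normal → IsPGroup p N → N ≤ P)
  {φ : P → ℂ} (hφ : IsIrrCharacter P φ) (hφ1 : φ 1 = 1)
  (hφc : classInner (fun x : P => χ x) φ ≠ 0) (hm : mult (fun x : P => χ x) φ = 1)
  (hidx : (inertia P φ).index + 1 = Nat.card P) (hdeg : deg χ + 1 = Nat.card P)
  (hnt : ∀ ψ ∈ conjOrbit P φ, ψ ≠ fun _ => 1)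
  (hall : ∀ η : P → ℂ, IsIrrCharacter P η → η ≠ (fun _ => 1) → η ∈ conjOrbit P φ)
  (hab : ∀ a b : P, a * b = b * a)

include hidx in
theorem inertia_index_le {η : P → ℂ} (hη : η ∈ conjOrbit P φ) :
    (inertia P η).index + 1 = Nat.card P := by
  classical
  obtain ⟨h, rfl⟩ := (mem_conjOrbit P).mp hη
  have : conjOrbit P (conjFun P h φ) = conjOrbit P φ := by
    ext ψ
    simp only [mem_conjOrbit]
    constructor
    · rintro ⟨g, rfl⟩; exact ⟨h * g, conjFun_mul P h g φ⟩
    · rintro ⟨g, rfl⟩; exact ⟨h⁻¹ * g, by rw [← conjFun_mul, mul_inv_cancel_left]⟩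
  rw [← card_conjOrbit, this, card_conjOrbit, hidx]

include hχ hf hb hr hPp hne hmax hφ hφ1 hφc hm hidx hdeg hall hab in
/-- The centralizer of the core is the core times the centre. -/
theorem centralizer_eq :
    Subgroup.centralizer (P : Set G) = P ⊔ Subgroup.center G := by
  classical
  set C := Subgroup.centralizer (P : Set G) with hCdef
  haveI : C.Normal := Subgroup.normal_centralizer
  haveI := Fintype.ofFinite C
  have hPC : P ≤ C := le_centralizer_self P hab
  have hCab := centralizer_comm P hab hχ hf hφ hφ1 hφc hm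
  have hCc : ∀ a b : C, a * b = b * a := fun a b => Subtype.ext (hCab a a.2 b b.2)
  refine le_antisymm ?_ (sup_le hPC fun z hz =>
    Subgroup.mem_centralizer_iff.mpr fun y _ => Subgroup.mem_center_iff.mp hz y)
  -- the norm of the restriction to `C`
  obtain ⟨η, hη⟩ := exists_constituent_restrict C hχ
  have hη1 : deg (η : C → ℂ) = 1 := by
    have h := irr_degree_one_of_comm hCc η.2
    rw [deg_eq (isCharacter_of_isIrr η.2)] at h
    exact_mod_cast h
  have hlow : deg χ ≤ (inertia C (η : C → ℂ)).index := by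
    obtain ⟨lam, hlam⟩ := exists_hom_of_comm hCc η.2
    set ηP : P → ℂ := fun x => (η : C → ℂ) ⟨x, hPC x.2⟩ with hηP
    have hηPi : IsIrrCharacter P ηP := by
      have := isIrrCharacter_lin (lam.comp (Subgroup.inclusion hPC))
      convert this using 1
      funext x
      simp only [hηP, hlam]
      rfl
    have hle : inertia C (η : C → ℂ) ≤ inertia P ηP := by
      intro g hg
      rw [CT.mem_inertia_iff P]
      intro n
      exact (CT.mem_inertia_iff C).mp hg ⟨n, hPC n.2⟩
    have hnt' : ηP ≠ fun _ => 1 := by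
      intro h1
      apply hne
      rw [eq_bot_iff]
      intro x hx
      refine Subgroup.mem_bot.mpr (hf x ?_)
      have h := clifford C hχ η.2 hη
      have hx' := congrFun h ⟨x, hPC hx⟩
      have h1' := congrFun h 1
      have hallC : ∀ θ ∈ conjOrbit C (η : C → ℂ), ∀ y : C, (y : G) ∈ P → θ y = 1 := by
        intro θ hθ y hy
        obtain ⟨k, rfl⟩ := (mem_conjOrbit C).mp hθ
        exact congrFun h1 ⟨k * y * k⁻¹, ‹P.Normal›.conj_mem _ hy k⟩
      simp only [Pi.smul_apply, Finset.sum_apply, OneMemClass.coe_one] at hx' h1'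
      rw [hx', h1', Finset.sum_congr rfl fun θ hθ => hallC θ hθ ⟨x, hPC hx⟩ hx,
        Finset.sum_congr rfl fun θ hθ => hallC θ hθ 1 P.one_mem]
    have h3 := inertia_index_le P hidx (hall ηP hηPi hnt')
    have h4 := Nat.le_of_dvd (Nat.pos_of_ne_zero Subgroup.index_ne_zero_of_finite)
      (Subgroup.index_dvd_of_le hle)
    omega
  have hcm := clifford_mult C hχ η.2 hη
  rw [hη1, mul_one] at hcm
  have hmC : mult (fun c : C => χ c) (η : C → ℂ) = 1 := by
    have hpos : 1 ≤ mult (fun c : C => χ c) (η : C → ℂ) := Nat.pos_of_ne_zero fun h => by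
      rw [h, zero_mul] at hcm; omega
    by_contra hne1
    have : 2 ≤ mult (fun c : C => χ c) (η : C → ℂ) := by omega
    have := Nat.mul_le_mul this hlow
    omega
  have hnormC : ∑ c : C, ‖χ c‖ ^ 2 = (Nat.card C : ℝ) * deg χ := by
    have h := norm_clifford C hχ η.2 hη
    rw [hmC, one_pow, one_mul] at h
    rw [sum_norm_sq _ h, hcm, hmC, one_mul]
  -- a complement of the core in `C`
  set P' : Subgroup C := P.subgroupOf C with hP'
  haveI : P'.Normal := ‹P.Normal›.subgroupOf C
  have hP'p : IsPGroup p P' := hPp.of_equiv (Subgroup.subgroupOfEquivOfLe hPC).symm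
  obtain ⟨S⟩ := (inferInstance : Nonempty (Sylow p C))
  haveI : (S : Subgroup C).Normal := ⟨fun a ha g => by rw [hCc g a, mul_inv_cancel_right]; exact ha⟩
  have hSP : (S : Subgroup C) ≤ P' := by
    haveI := Sylow.characteristic_of_normal S inferInstance
    intro s hs
    exact Subgroup.mem_subgroupOf.mpr (hmax ((S : Subgroup C).map C.subtype) inferInstance
      (S.2.map _) (Subgroup.mem_map_of_mem _ hs))
  have hP'S : P' = (S : Subgroup C) := S.3 hP'p hSP
  have hcop : Nat.Coprime (Nat.card P') P'.index := by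
    obtain ⟨n, hn⟩ := hP'p.exists_card_eq
    rw [hn]
    exact (hp.out.coprime_iff_not_dvd.mpr (hP'S ▸ S.not_dvd_index)).pow_left n
  obtain ⟨K, hK⟩ := Subgroup.exists_right_complement'_of_coprime hcop
  haveI := Fintype.ofFinite P'
  haveI := Fintype.ofFinite K
  have hKp : ∀ k : K, ¬ p ∣ orderOf ((k : C) : G) := by
    intro k h
    rw [Subgroup.orderOf_coe, Subgroup.orderOf_coe] at h
    refine (hP'S ▸ S.not_dvd_index) (h.trans ?_)
    rw [hK.symm.index_eq_card]
    exact orderOf_dvd_natCard k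
  have hsing : ∀ (x : P') (k : K), x ≠ 1 → ‖χ (((x : C) * (k : C) : C) : G)‖ = 1 := by
    intro x k hx
    refine hr _ ?_
    have hcomm : Commute ((x : C) : G) ((k : C) : G) := congrArg (fun w : C => (w : G)) (hCc _ _)
    have hxd : p ∣ orderOf ((x : C) : G) := dvd_orderOf_of_pgroup hPp
      (Subgroup.mem_subgroupOf.mp x.2) fun h => hx (Subtype.ext (Subtype.ext h))
    obtain ⟨n, hn⟩ := (IsPGroup.iff_orderOf.mp hP'p) x
    rw [← Subgroup.orderOf_coe, ← Subgroup.orderOf_coe] at hn
    rw [Subgroup.coe_mul, hcomm.orderOf_mul_eq_mul_orderOf_of_coprime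
      (hn ▸ (hp.out.coprime_iff_not_dvd.mpr (hKp k)).pow_left n)]
    exact dvd_mul_of_dvd_left hxd _
  have hsplit : ∀ f : C → ℝ, ∑ c, f c = ∑ x : P', ∑ k : K, f ((x : C) * (k : C)) := by
    intro f
    rw [← Fintype.sum_prod_type']
    exact (Fintype.sum_bijective (fun xk : P' × K => (xk.1 : C) * (xk.2 : C)) hK _ _
      fun _ => rfl).symm
  have hsumK : ∑ k : K, ((deg χ : ℝ) ^ 2 - ‖χ ((k : C) : G)‖ ^ 2) = 0 := by
    rw [hsplit fun c => ‖χ (c : G)‖ ^ 2] at hnormC
    rw [← Finset.add_sum_erase _ _ (Finset.mem_univ (1 : P')),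
      Finset.sum_congr rfl (g := fun _ => ∑ k : K, (1 : ℝ)) fun x hx =>
        Finset.sum_congr rfl fun k _ => by
          rw [hsing x k (Finset.mem_erase.mp hx).1, one_pow],
      Finset.sum_const, Finset.card_erase_of_mem (Finset.mem_univ _), Finset.card_univ,
      Finset.sum_const, Finset.card_univ, nsmul_eq_mul, nsmul_eq_mul, mul_one,
      ← Nat.card_eq_fintype_card, ← Nat.card_eq_fintype_card, OneMemClass.coe_one] at hnormC
    simp only [one_mul] at hnormC
    rw [← hK.card_mul_card, Nat.card_congr (Subgroup.subgroupOfEquivOfLe hPC).toEquiv, ← hdeg] at hnormC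
    push_cast [Nat.add_sub_cancel] at hnormC
    rw [Finset.sum_sub_distrib, Finset.sum_const, Finset.card_univ, nsmul_eq_mul,
      ← Nat.card_eq_fintype_card]
    nlinarith [hnormC]
  have hKZ : ∀ k : K, ((k : C) : G) ∈ Subgroup.center G := by
    intro k
    have hle : ∀ k : K, 0 ≤ (deg χ : ℝ) ^ 2 - ‖χ ((k : C) : G)‖ ^ 2 := by
      intro k
      have h := norm_isCharacter_le (isCharacter_of_isIrr hχ) ((k : C) : G)
      rw [deg_eq (isCharacter_of_isIrr hχ), Complex.natCast_re] at h
      nlinarith [norm_nonneg (χ ((k : C) : G))]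
    have h := (Finset.sum_eq_zero_iff_of_nonneg fun k _ => hle k).mp hsumK k (Finset.mem_univ _)
    refine mem_center_of_norm (isCharacter_of_isIrr hχ) hf ?_
    nlinarith [norm_nonneg (χ ((k : C) : G)), (Nat.cast_nonneg _ : (0 : ℝ) ≤ (deg χ : ℝ))]
  intro c hc
  obtain ⟨⟨x, k⟩, hxk⟩ := hK.2 ⟨c, hc⟩
  have e : ((x : C) : G) * ((k : C) : G) = c := congrArg (fun w : C => (w : G)) hxk
  exact e ▸ (P ⊔ Subgroup.center G).mul_mem
    (Subgroup.mem_sup_left (Subgroup.mem_subgroupOf.mp x.2)) (Subgroup.mem_sup_right (hKZ k))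

set_option maxHeartbeats 800000 in
include hχ hf hb hr hPp hne hφ hφ1 hφc hm hidx hdeg hnt hall hab in
/-- If the core is not a Sylow subgroup, it is a four-group and `p = 2`. -/
theorem four {R : Subgroup G} (hR : IsPGroup p R) (hPR : P < R) :
    p = 2 ∧ Nat.card P = 4 ∧
      ∃ r : G, r ^ 2 ∈ P ∧ r ∈ R ∧ r ∉ P := by
  classical
  obtain ⟨y, hyR, hyP⟩ := SetLike.exists_of_lt hPR
  have hex : ∃ j : ℕ, y ^ p ^ j ∈ P := by
    obtain ⟨j, hj⟩ := hR ⟨y, hyR⟩
    refine ⟨j, ?_⟩
    have : y ^ p ^ j = 1 := congrArg (fun w : R => (w : G)) hj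
    rw [this]; exact P.one_mem
  obtain ⟨j, hj⟩ : ∃ j, Nat.find hex = j + 1 := by
    refine Nat.exists_eq_succ_of_ne_zero fun h => hyP ?_
    have := Nat.find_spec hex
    rwa [h, pow_zero, pow_one] at this
  set r := y ^ p ^ j with hrdef
  have hrP : r ∉ P := Nat.find_min hex (by omega)
  have hrp : r ^ p ∈ P := by
    have := Nat.find_spec hex
    rwa [hj, pow_succ, pow_mul] at this
  have hrR : r ∈ R := R.pow_mem hyR _
  -- the coset of `r`
  obtain ⟨μ, hPT, hind, hμ⟩ := monomial P hab hχ hφ hφ1 hφc hm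
  haveI := Fintype.ofFinite (inertia P φ)
  set S : Finset G := Finset.univ.filter fun g : G => g * r * g⁻¹ ∈ inertia P φ with hS
  have hSc : S.card = Nat.card (inertia P φ) := by
    have h := sum_coset P hφ (inertia P φ) rfl hPT μ hμ hind r
    rw [Finset.sum_congr rfl (g := fun _ => (1 : ℂ)) fun x _ => by
        rw [Complex.mul_conj', hr (r * x) (dvd_orderOf_of_pgroup hR (R.mul_mem hrR (hPR.le x.2))
          fun h => hrP (eq_inv_of_mul_eq_one_left h ▸ P.inv_mem x.2))]
        norm_num,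
      Finset.sum_const, Finset.card_univ, nsmul_eq_mul, mul_one, ← Nat.card_eq_fintype_card,
      mul_comm] at h
    have hq : (Nat.card P : ℂ) ≠ 0 := Nat.cast_ne_zero.mpr Nat.card_pos.ne'
    exact_mod_cast (mul_left_cancel₀ hq h).symm
  have hfix : ∀ g : G, g ∈ S ↔ conjFun P r (conjFun P g φ) = conjFun P g φ := by
    intro g
    rw [hS, Finset.mem_filter, ← conjFun_mul, mem_inertia]
    refine ⟨fun h => ?_, fun h => ⟨Finset.mem_univ _, ?_⟩⟩
    · have := congrArg (conjFun P g) h.2
      rwa [← conjFun_mul, inv_mul_cancel_right] at this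
    · rw [conjFun_mul, h, ← conjFun_mul, mul_inv_cancel, conjFun_one]
  have huniq : ∀ g ∈ S, ∀ h ∈ S, conjFun P g φ = conjFun P h φ := by
    intro g hg h hh
    have hsub : (Finset.univ.filter fun k : G => conjFun P k φ = conjFun P g φ) ⊆ S := by
      intro k hk
      rw [hfix, (Finset.mem_filter.mp hk).2]
      exact (hfix g).mp hg
    have := Finset.eq_of_subset_of_card_le hsub ((le_of_eq (hSc.trans (card_conjFun_fiber P φ g).symm)).trans_eq
      (congrArg Finset.card (Finset.ext fun k => by simp)))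
    rw [← this] at hh
    exact (Finset.mem_filter.mp hh).2.symm
  obtain ⟨g₀, hg₀⟩ := Finset.card_pos.mp (hSc ▸ Nat.card_pos)
  -- the dual group
  let σ : (P →* ℂˣ) → (P →* ℂˣ) := fun lam => lam.comp (MulAut.conjNormal r).toMonoidHom
  let fn : (P →* ℂˣ) → (P → ℂ) := fun lam x => (lam x : ℂ)
  have hσfn : ∀ lam, fn (σ lam) = conjFun P r (fn lam) := by
    intro lam; rw [conjFun_eq_comp]; rfl
  have hfninj : Function.Injective fn := fun a b h =>
    MonoidHom.ext fun x => Units.ext (congrFun h x)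
  obtain ⟨l0, hl0⟩ := exists_hom_of_comm hab (isIrrCharacter_conjFun P g₀ hφ)
  have hfix0 : ∀ lam, σ lam = lam → lam = 1 ∨ lam = l0 := by
    intro lam hlam
    by_cases h1 : fn lam = fun _ => 1
    · exact Or.inl (hfninj (h1.trans (funext fun x => by simp [fn])))
    obtain ⟨g, hg⟩ := (mem_conjOrbit P).mp (hall _ (isIrrCharacter_lin lam) h1)
    have hgS : g ∈ S := (hfix g).mpr (by rw [hg]; exact (hσfn lam).symm.trans (congrArg fn hlam))
    exact Or.inr (hfninj (hg.symm.trans ((huniq g hgS g₀ hg₀).trans hl0)))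
  have hl01 : l0 ≠ 1 := by
    intro h
    refine hnt (conjFun P g₀ φ) ((mem_conjOrbit P).mpr ⟨g₀, rfl⟩) ?_
    rw [hl0, h]; funext x; simp
  have hl0fix : σ l0 = l0 := hfninj (by
    rw [hσfn, show fn l0 = conjFun P g₀ φ from hl0.symm]; exact (hfix g₀).mp hg₀)
  have hσmul : ∀ a b, σ (a * b) = σ a * σ b := fun a b => MonoidHom.ext fun x => rfl
  have hexp := pow_prime_eq_one P hall hab hPp hne
  have hp2 : p = 2 := by
    by_contra hp2
    obtain ⟨i, hi⟩ := hp.out.odd_of_ne_two hp2
    have hsq : σ (l0 * l0) = l0 * l0 := by rw [hσmul, hl0fix]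
    rcases hfix0 (l0 * l0) hsq with h | h
    · refine hl01 (MonoidHom.ext fun x => ?_)
      have h2 : l0 x ^ 2 = 1 := by rw [pow_two]; exact DFunLike.congr_fun h x
      have hp' : l0 x ^ p = 1 := by
        rw [← map_pow, show x ^ p = 1 from Subtype.ext (hexp x x.2), map_one]
      rw [hi, pow_succ, pow_mul, h2, one_pow, one_mul] at hp'
      exact hp'
    · refine hl01 (MonoidHom.ext fun x => ?_)
      have hx : l0 x * l0 x = l0 x := DFunLike.congr_fun h x
      exact mul_eq_left.mp hx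
  subst hp2
  have hinv : ∀ lam : P →* ℂˣ, lam * lam = 1 := fun lam => MonoidHom.ext fun x => by
    rw [MonoidHom.mul_apply, ← map_mul, ← pow_two, show x ^ 2 = 1 from Subtype.ext (hexp x x.2),
      map_one]
    rfl
  have hσσ : ∀ lam, σ (σ lam) = lam := fun lam => MonoidHom.ext fun x => by
    refine congrArg lam (Subtype.ext ?_)
    show r * (r * (x : G) * r⁻¹) * r⁻¹ = x
    have hc : r ^ 2 * (x : G) = (x : G) * r ^ 2 :=
      congrArg (fun w : P => (w : G)) (hab ⟨r ^ 2, hrp⟩ x)
    calc r * (r * (x : G) * r⁻¹) * r⁻¹ = r ^ 2 * (x : G) * (r ^ 2)⁻¹ := by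
          simp only [pow_two, mul_inv_rev, mul_assoc]
      _ = x := by rw [hc, mul_inv_cancel_right]
  let κ : (P →* ℂˣ) →* (P →* ℂˣ) :=
    MonoidHom.mk' (fun lam => lam * σ lam) fun a b => MonoidHom.ext fun x => by
      show a x * b x * (σ (a * b) x) = a x * σ a x * (b x * σ b x)
      rw [hσmul]
      exact mul_mul_mul_comm (a x) (b x) (σ a x) (σ b x)
  have hrange : ∀ lam, κ lam = 1 ∨ κ lam = l0 := fun lam => hfix0 _ (by
    show σ (lam * σ lam) = lam * σ lam
    rw [hσmul, hσσ]
    exact MonoidHom.ext fun x => mul_comm (σ lam x) (lam x))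
  have hker : ∀ lam ∈ κ.ker, lam = 1 ∨ lam = l0 := fun lam h => hfix0 _ (by
    have h' : lam * σ lam = 1 := h
    exact MonoidHom.ext fun x =>
      mul_left_cancel (DFunLike.congr_fun (h'.trans (hinv lam).symm) x))
  have hcardD : Nat.card (P →* ℂˣ) = Nat.card P := by
    letI : CommGroup P := { (inferInstance : Group P) with mul_comm := hab }
    exact CommGroup.card_monoidHom_of_hasEnoughRootsOfUnity P ℂ
  have hle2 : ∀ T : Subgroup (P →* ℂˣ), (∀ t ∈ T, t = 1 ∨ t = l0) → Nat.card T ≤ 2 := by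
    intro T hT
    have hinj : Function.Injective fun t : T => decide ((t : P →* ℂˣ) = 1) := by
      intro a b h
      rcases hT a a.2 with ha | ha <;> rcases hT b b.2 with hb | hb
      · exact Subtype.ext (ha.trans hb.symm)
      · exact absurd ((decide_eq_decide.mp h).mp ha) (hb ▸ hl01)
      · exact absurd ((decide_eq_decide.mp h).mpr hb) (ha ▸ hl01)
      · exact Subtype.ext (ha.trans hb.symm)
    exact (Nat.card_le_card_of_injective _ hinj).trans (by simp)
  have h4 : Nat.card P ≤ 4 := by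
    rw [← hcardD, ← κ.ker.card_mul_index, Subgroup.index_ker]
    exact Nat.mul_le_mul (hle2 _ hker) (hle2 _ fun t ht => by
      obtain ⟨a, rfl⟩ := MonoidHom.mem_range.mp ht
      exact hrange a)
  have hq3 : 3 ≤ Nat.card P := by omega
  obtain ⟨n, hn⟩ := hPp.exists_card_eq
  refine ⟨rfl, ?_, r, hrp, hrR, hrP⟩
  rcases n with _ | _ | _ | n <;> simp_all [pow_succ]
  omega

end Cfsg.Agent.RootSingular
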