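import Cfsg.Agent.Lib.CT.RootSingular.Base
import Mathlib.GroupTheory.Sylow
import Mathlib.GroupTheory.SchurZassenhaus

/-!
# Structure of the centralizer of the core
-/

set_option autoImplicit false
set_option linter.style.haveILetI false
set_option linter.unusedSectionVars false

namespace Cfsg.Agent.RootSingular

open Cfsg.Agent.CT

open scoped ComplexConjugate

universe u

variable {G : Type u} [Group G] [Fintype G] (P : Subgroup G) [P.Normal] [Fintype P]
  {φ : P → ℂ}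
  (hall : ∀ η : P → ℂ, IsIrrCharacter P η → η ≠ (fun _ => 1) → η ∈ conjOrbit P φ)
  (hab : ∀ a b : P, a * b = b * a)

include hall in
/-- The core is a minimal normal subgroup. -/
theorem minimal {M : Subgroup G} [hM : M.Normal] (hMP : M ≤ P) (hMne : M ≠ P) : M = ⊥ := by
  classical
  obtain ⟨x, hxP, hxM⟩ := SetLike.exists_of_lt (lt_of_le_of_ne hMP hMne)
  set M' : Subgroup P := M.subgroupOf P
  haveI : M'.Normal := hM.subgroupOf P
  haveI := Fintype.ofFinite (↥P ⧸ M')
  have hx1 : (QuotientGroup.mk (⟨x, hxP⟩ : P) : ↥P ⧸ M') ≠ 1 := fun h =>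
    hxM (Subgroup.mem_subgroupOf.mp ((QuotientGroup.eq_one_iff _).mp h))
  obtain ⟨ψ, hψ⟩ : ∃ ψ : IrrCharacter (↥P ⧸ M'),
      (ψ : ↥P ⧸ M' → ℂ) (QuotientGroup.mk (⟨x, hxP⟩ : P)) ≠ (ψ : ↥P ⧸ M' → ℂ) 1 := by
    by_contra h
    push Not at h
    exact hx1 (isConj_one_left.mp (isConj_iff_forall_irr.mpr h))
  set η : P → ℂ := fun y => (ψ : ↥P ⧸ M' → ℂ) (QuotientGroup.mk y) with hη
  have hηi : IsIrrCharacter P η := isIrr_inflate M' ψ.2 fun g => rfl
  have hη1 : η ≠ fun _ => 1 := by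
    intro h
    exact hψ ((congrFun h ⟨x, hxP⟩).trans (congrFun h 1).symm)
  have hηM : ∀ m : P, (m : G) ∈ M → η m = η 1 := by
    intro m hm
    simp only [hη]
    rw [(QuotientGroup.eq_one_iff m).mpr (Subgroup.mem_subgroupOf.mpr hm)]
    rfl
  rw [eq_bot_iff]
  intro m hm
  refine Subgroup.mem_bot.mpr ?_
  have key : IsConj (⟨m, hMP hm⟩ : P) 1 := by
    refine isConj_iff_forall_irr.mpr fun θ => ?_
    by_cases h1 : (θ : P → ℂ) = fun _ => 1
    · rw [h1]
    obtain ⟨g, hg⟩ := (mem_conjOrbit P).mp (hall _ θ.2 h1)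
    obtain ⟨k, hk⟩ := (mem_conjOrbit P).mp (hall _ hηi hη1)
    have hθ : (θ : P → ℂ) = conjFun P (k⁻¹ * g) η := by
      rw [← hk, ← conjFun_mul, mul_inv_cancel_left, hg]
    rw [hθ]
    show η _ = η _
    rw [hηM _ (hM.conj_mem m hm _)]
    exact (congrArg η (Subtype.ext (by simp))).symm
  exact congrArg (fun y : P => (y : G)) (isConj_one_left.mp key)

include hall hab in
theorem pow_prime_eq_one {p : ℕ} [hp : Fact p.Prime] (hPp : IsPGroup p P) (hne : P ≠ ⊥) :
    ∀ x ∈ P, x ^ p = 1 := by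
  classical
  let M : Subgroup G :=
    { carrier := {y | ∃ x ∈ P, x ^ p = y}
      one_mem' := ⟨1, P.one_mem, one_pow p⟩
      mul_mem' := fun {a b} ha hb => by
        obtain ⟨x, hx, rfl⟩ := ha
        obtain ⟨y, hy, rfl⟩ := hb
        exact ⟨x * y, P.mul_mem hx hy,
          Commute.mul_pow (congrArg (fun w : P => (w : G)) (hab ⟨x, hx⟩ ⟨y, hy⟩)) p⟩
      inv_mem' := fun {a} ha => by
        obtain ⟨x, hx, rfl⟩ := ha
        exact ⟨x⁻¹, P.inv_mem hx, inv_pow x p⟩ }
  haveI : M.Normal := ⟨fun y hy g => by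
    obtain ⟨x, hx, rfl⟩ := hy
    exact ⟨g * x * g⁻¹, ‹P.Normal›.conj_mem x hx g, conj_pow⟩⟩
  have hMP : M ≤ P := by
    rintro y ⟨x, hx, rfl⟩
    exact P.pow_mem hx p
  have hMne : M ≠ P := by
    intro h
    haveI := (Subgroup.nontrivial_iff_ne_bot P).mpr hne
    have hsurj : Function.Surjective fun x : P => x ^ p := by
      rintro ⟨y, hy⟩
      obtain ⟨x, hx, hxy⟩ := (h ▸ hy : y ∈ M)
      exact ⟨⟨x, hx⟩, Subtype.ext hxy⟩
    have hinj := Finite.injective_iff_surjective.mpr hsurj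
    obtain ⟨k, hk⟩ := hPp.exists_card_eq
    have hpd : p ∣ Nat.card P := by
      rcases k with _ | k
      · exact absurd hk (Finite.one_lt_card (α := P)).ne'
      · exact hk ▸ dvd_pow_self p k.succ_ne_zero
    obtain ⟨z, hz⟩ := exists_prime_orderOf_dvd_card' p hpd
    have : z = 1 := hinj (by simp only; rw [one_pow, ← hz, pow_orderOf_eq_one])
    rw [this, orderOf_one] at hz
    exact hp.out.one_lt.ne hz
  intro x hx
  have hM := minimal P hall hMP hMne
  have : x ^ p ∈ M := ⟨x, hx, rfl⟩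
  rwa [hM, Subgroup.mem_bot] at this

include hall hab in
/-- An element fixing all nontrivial characters centralizes the core. -/
theorem mem_centralizer_of_fix {g : G}
    (hg : ∀ ψ ∈ conjOrbit P φ, conjFun P g ψ = ψ) :
    ∀ x ∈ P, g * x * g⁻¹ = x := by
  classical
  intro x hx
  have key : IsConj (⟨g * x * g⁻¹, ‹P.Normal›.conj_mem x hx g⟩ : P) ⟨x, hx⟩ := by
    refine isConj_iff_forall_irr.mpr fun θ => ?_
    by_cases h1 : (θ : P → ℂ) = fun _ => 1
    · rw [h1]
    exact congrFun (hg _ (hall _ θ.2 h1)) ⟨x, hx⟩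
  obtain ⟨c, hc⟩ := isConj_iff.mp key
  rw [hab c, mul_inv_cancel_right] at hc
  exact congrArg (fun y : P => (y : G)) hc

variable {χ : G → ℂ} (hχ : IsIrrCharacter G χ) (hf : ∀ g : G, χ g = χ 1 → g = 1)
  (hφ : IsIrrCharacter P φ) (hφ1 : φ 1 = 1) (hφc : classInner (fun x : P => χ x) φ ≠ 0)
  (hm : mult (fun x : P => χ x) φ = 1)

include hab in
theorem centralizer_le_inertia :
    Subgroup.centralizer (P : Set G) ≤ inertia P φ := by
  intro c hc
  rw [CT.mem_inertia_iff P]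
  intro n
  refine congrArg φ (Subtype.ext ?_)
  show c * (n : G) * c⁻¹ = n
  rw [← Subgroup.mem_centralizer_iff.mp hc n n.2, mul_inv_cancel_right]

include hab in
theorem le_centralizer_self : P ≤ Subgroup.centralizer (P : Set G) := fun x hx =>
  Subgroup.mem_centralizer_iff.mpr fun y hy =>
    congrArg (fun w : P => (w : G)) (hab ⟨y, hy⟩ ⟨x, hx⟩)

include hab hχ hφ hφ1 hφc hm in
/-- The character is monomial. -/
theorem monomial :
    ∃ (μ : inertia P φ →* ℂˣ) (h : P ≤ inertia P φ),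
      indFun (inertia P φ) (fun t => (μ t : ℂ)) = χ ∧ ∀ x : P, (μ ⟨x, h x.2⟩ : ℂ) = φ x := by
  classical
  have hPT : P ≤ inertia P φ := (le_centralizer_self P hab).trans (centralizer_le_inertia P hab)
  haveI := Fintype.ofFinite (inertia P φ)
  obtain ⟨ψ, hψ, hind, hψc⟩ := exists_correspondent P hφ (inertia P φ) rfl hPT hχ hφc
  have hψ1 : ψ 1 = 1 := by
    have hd := deg_eq_of_over P hφ (inertia P φ) rfl hPT hψ (hψc ▸ hφc)
    have hm' : mult (resTo P (inertia P φ) hPT ψ) φ = mult (fun x : P => χ x) φ := by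
      unfold mult; rw [hψc]
    rw [hm', hm, one_mul] at hd
    rw [deg_eq (isCharacter_of_isIrr hψ), hd, ← deg_eq (isCharacter_of_isIrr hφ), hφ1]
  obtain ⟨μ, rfl⟩ := exists_hom_of_degree_one (isCharacter_of_isIrr hψ) hψ1
  refine ⟨μ, hPT, hind, fun x => ?_⟩
  have h := congrFun (resTo_eq_smul P hφ (inertia P φ) rfl hPT hψ (hψc ▸ hφc)) x
  rw [hψc, mult_spec (isCharacter_restrict P (isCharacter_of_isIrr hχ)) (isCharacter_of_isIrr hφ),
    hm] at h
  simpa [resTo] using h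

include hab hχ hf hφ hφ1 hφc hm in
theorem centralizer_comm :
    ∀ a ∈ Subgroup.centralizer (P : Set G), ∀ b ∈ Subgroup.centralizer (P : Set G),
      a * b = b * a := by
  classical
  obtain ⟨μ, hPT, hind, -⟩ := monomial P hab hχ hφ hφ1 hφc hm
  set C := Subgroup.centralizer (P : Set G)
  haveI : C.Normal := Subgroup.normal_centralizer
  haveI := Fintype.ofFinite (inertia P φ)
  intro a ha b hb
  have hval : ∀ x : G, extendByZero (inertia P φ) (fun t => (μ t : ℂ))
      (x⁻¹ * (a * b * a⁻¹ * b⁻¹) * x) = 1 := by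
    intro x
    have h1 : x⁻¹ * a * x ∈ inertia P φ :=
      centralizer_le_inertia P hab (by simpa using ‹C.Normal›.conj_mem a ha x⁻¹)
    have h2 : x⁻¹ * b * x ∈ inertia P φ :=
      centralizer_le_inertia P hab (by simpa using ‹C.Normal›.conj_mem b hb x⁻¹)
    have e : x⁻¹ * (a * b * a⁻¹ * b⁻¹) * x = ((⟨_, h1⟩ * ⟨_, h2⟩ * (⟨_, h1⟩ : inertia P φ)⁻¹ *
        (⟨_, h2⟩ : inertia P φ)⁻¹ : inertia P φ) : G) := by
      push_cast
      group
    rw [e, extendByZero_coe]
    simp only [map_mul, map_inv]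
    rw [mul_comm (μ ⟨_, h1⟩) (μ ⟨_, h2⟩), mul_inv_cancel_right, mul_inv_cancel, Units.val_one]
  have h : χ (a * b * a⁻¹ * b⁻¹) = χ 1 := by
    rw [← hind, indFun_one_eval]
    simp only [map_one, Units.val_one, mul_one]
    unfold indFun
    rw [Finset.sum_congr rfl fun x _ => hval x, Finset.sum_const, Finset.card_univ, nsmul_eq_mul,
      mul_one, ← Nat.card_eq_fintype_card, ← (inertia P φ).index_mul_card]
    push_cast
    have : (Nat.card (inertia P φ) : ℂ) ≠ 0 := Nat.cast_ne_zero.mpr Nat.card_pos.ne'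
    field_simp
  exact mul_inv_eq_iff_eq_mul.mp (mul_inv_eq_one.mp (hf _ h))

end Cfsg.Agent.RootSingular
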