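import Cfsg.Agent.Lib.CT.Clifford
import Cfsg.Agent.Lib.CT.Kernel
import Cfsg.Agent.Lib.CT.Integral

/-!
# Tools for faithful characters that are small on singular elements
-/

set_option autoImplicit false

namespace Cfsg.Agent.RootSingular

open Cfsg.Agent.CT

open scoped ComplexConjugate

universe u

variable {G : Type u} [Group G] [Fintype G]

theorem sum_norm_sq (θ : G → ℂ) {n : ℕ} (h : classInner θ θ = (n : ℂ)) :
    ∑ g : G, ‖θ g‖ ^ 2 = (Nat.card G : ℝ) * n := by
  rw [classInner_self] at h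
  have h2 : (Nat.card G : ℝ)⁻¹ * ∑ g : G, ‖θ g‖ ^ 2 = (n : ℝ) := by exact_mod_cast h
  have h0 : (Nat.card G : ℝ) ≠ 0 := Nat.cast_ne_zero.mpr Nat.card_pos.ne'
  rw [← h2, ← mul_assoc, mul_inv_cancel₀ h0, one_mul]

/-- The norm of a restriction to a normal subgroup. -/
theorem norm_clifford (N : Subgroup G) [N.Normal] [Fintype N] {χ : G → ℂ}
    (hχ : IsIrrCharacter G χ) {φ : N → ℂ} (hφ : IsIrrCharacter N φ)
    (h1 : classInner (fun n : N => χ n) φ ≠ 0) :
    classInner (fun n : N => χ n) (fun n : N => χ n) =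
      ((mult (fun n : N => χ n) φ ^ 2 * (inertia N φ).index : ℕ) : ℂ) := by
  classical
  have hm := mult_spec (isCharacter_restrict N (isCharacter_of_isIrr hχ)) (isCharacter_of_isIrr hφ)
  have e := clifford N hχ hφ h1
  conv_lhs => arg 2; rw [e]
  rw [classInner_smul_right, classInner_sum_right,
    Finset.sum_congr rfl (g := fun _ => classInner (fun n : N => χ n) φ) fun ψ hψ => by
      obtain ⟨g, rfl⟩ := (mem_conjOrbit N).mp hψ
      exact classInner_restrict_conjFun N (isClassFunction_of_isIrr hχ) φ g,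
    Finset.sum_const, card_conjOrbit, hm, Complex.conj_natCast, nsmul_eq_mul]
  push_cast
  ring

/-- Central elements have values of maximal absolute value. -/
theorem norm_of_center {χ : G → ℂ} (hχ : IsIrrCharacter G χ) {z : G}
    (hz : z ∈ Subgroup.center G) : ‖χ z‖ = (deg χ : ℝ) := by
  obtain ⟨n, ρ, hρ, rfl⟩ := hχ
  haveI := hρ
  obtain ⟨ω, hω, -⟩ := central_scalar ρ hz
  rw [deg_eq_finrank]
  exact (norm_eq_iff_scalar ρ z).mpr ⟨ω, hω⟩

/-- In a faithful character, an element with maximal absolute value is central. -/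
theorem mem_center_of_norm {χ : G → ℂ} (hχ : IsCharacter G χ)
    (hf : ∀ g : G, χ g = χ 1 → g = 1) {g : G} (hg : ‖χ g‖ = (deg χ : ℝ)) :
    g ∈ Subgroup.center G := by
  obtain ⟨n, ρ, rfl⟩ := hχ
  rw [deg_eq_finrank] at hg
  obtain ⟨ω, hω⟩ := (norm_eq_iff_scalar ρ g).mp hg
  refine Subgroup.mem_center_iff.mpr fun x => ?_
  have hc : ρ (x * g) = ρ (g * x) := by
    rw [map_mul, map_mul, hω]
    refine LinearMap.ext fun v => ?_
    simp
  have hu : ρ ((x * g) * (g * x)⁻¹) = 1 := by
    rw [map_mul, hc, ← map_mul, mul_inv_cancel, map_one]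
  exact mul_inv_eq_one.mp (hf _ ((rep_eq_one_iff ρ _).mp hu))

/-- The arithmetic of the restriction to the core. -/
theorem arith {p q n e t d : ℕ} (hp : p.Prime) (hq : q = p ^ n) (hd : d ∣ q)
    (hlt : t * d ^ 2 < q) (heq : (e * t * d) ^ 2 + q = q * (e ^ 2 * t) + 1)
    (hb : 2 ≤ e * t * d) : e = 1 ∧ d = 1 ∧ t + 1 = q := by
  have he : 1 ≤ e := Nat.pos_of_ne_zero fun h => by simp [h] at hb
  have ht : 1 ≤ t := Nat.pos_of_ne_zero fun h => by simp [h] at hb
  have hd1 : d = 1 := by
    obtain ⟨m, -, rfl⟩ := (Nat.dvd_prime_pow hp).mp (hq ▸ hd)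
    have hle : p ^ (2 * m) < p ^ n := by
      rw [← hq]
      calc p ^ (2 * m) = 1 * (p ^ m) ^ 2 := by rw [one_mul, ← pow_mul, mul_comm]
        _ ≤ t * (p ^ m) ^ 2 := Nat.mul_le_mul_right _ ht
        _ < q := hlt
    have hdq : (p ^ m) ^ 2 ∣ q := by
      rw [hq, ← pow_mul, mul_comm m 2]
      exact Nat.pow_dvd_pow p ((Nat.pow_lt_pow_iff_right hp.one_lt).mp hle).le
    have h1 : (p ^ m) ^ 2 ∣ (e * t * p ^ m) ^ 2 + q :=
      dvd_add (by rw [mul_pow]; exact dvd_mul_left _ _) hdq
    rw [heq] at h1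
    have h2 := (Nat.dvd_add_right (Dvd.dvd.mul_right hdq _)).mp h1
    exact (mul_eq_one.mp (Nat.dvd_one.mp (pow_two (p ^ m) ▸ h2))).1
  subst hd1
  simp only [mul_one, one_pow] at hlt heq hb
  obtain ⟨s, rfl⟩ : ∃ s, q = t + s := ⟨q - t, by omega⟩
  have hs : 1 ≤ s := by omega
  have key : e ^ 2 * t * s + 1 = t + s := by nlinarith
  have hts : t + s ≤ t * s + 1 := by nlinarith
  have he1 : e = 1 := by
    by_contra hne
    have : 4 ≤ e ^ 2 := by nlinarith [show 2 ≤ e by omega]
    nlinarith [Nat.mul_pos ht hs]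
  subst he1
  simp only [one_pow, one_mul] at key hb
  refine ⟨rfl, rfl, ?_⟩
  rcases Nat.lt_or_ge 1 s with h | h
  · nlinarith
  · omega

/-- Extension by zero of a class function is invariant under conjugation from the subgroup. -/
theorem extendByZero_conj {H : Type u} [Group H] (T : Subgroup H) {θ : T → ℂ}
    (hθ : IsClassFunction T θ) {t : H} (ht : t ∈ T) (y : H) :
    extendByZero T θ (t * y * t⁻¹) = extendByZero T θ y := by
  by_cases hy : y ∈ T
  · rw [extendByZero_mem T θ hy, extendByZero_mem T θ (T.mul_mem (T.mul_mem ht hy) (T.inv_mem ht))]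
    exact hθ ⟨y, hy⟩ ⟨t, ht⟩
  · rw [extendByZero_not_mem T θ hy, extendByZero_not_mem]
    intro h
    apply hy
    have := T.mul_mem (T.mul_mem (T.inv_mem ht) h) ht
    simpa [mul_assoc] using this

theorem indFun_apply' (T : Subgroup G) (θ : T → ℂ) (y : G) :
    indFun T θ y = (Nat.card T : ℂ)⁻¹ * ∑ g : G, extendByZero T θ (g * y * g⁻¹) := by
  unfold indFun
  congr 1
  exact Fintype.sum_equiv (Equiv.inv G) _ _ fun g => by simp

open Classical in
/-- The squared absolute values of a monomial character on a coset of a normal subgroup. -/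
theorem sum_coset (P : Subgroup G) [P.Normal] [Fintype P] {φ : P → ℂ} (hφ : IsIrrCharacter P φ)
    (T : Subgroup G) (hT : T = inertia P φ) (hPT : P ≤ T) (μ : T →* ℂˣ)
    (hμ : ∀ x : P, (μ ⟨x, hPT x.2⟩ : ℂ) = φ x) {χ : G → ℂ}
    (hχ : indFun T (fun t => (μ t : ℂ)) = χ) (r : G) :
    (Nat.card T : ℂ) * ∑ x : P, χ (r * x) * conj (χ (r * x)) =
      (Nat.card P : ℂ) * ((Finset.univ.filter fun g : G => g * r * g⁻¹ ∈ T).card : ℂ) := by
  classical
  set θ : T → ℂ := fun t => (μ t : ℂ) with hθdef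
  set F : G → ℂ := fun g => extendByZero T θ (g * r * g⁻¹) with hF
  have hcl : IsClassFunction T θ := isClassFunction_of_isIrr (isIrrCharacter_lin μ)
  have hval : ∀ (g : G) (x : P),
      extendByZero T θ (g * (r * x) * g⁻¹) = F g * conjFun P g φ x := by
    intro g x
    have hm : g * (x : G) * g⁻¹ ∈ T := hPT (‹P.Normal›.conj_mem _ x.2 g)
    have e : g * (r * x) * g⁻¹ = (g * r * g⁻¹) * (g * x * g⁻¹) := by group
    rw [e, hF]
    by_cases hr : g * r * g⁻¹ ∈ T
    · show extendByZero T θ _ = extendByZero T θ _ * _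
      rw [extendByZero_mem T θ hr, extendByZero_mem T θ (T.mul_mem hr hm), hθdef]
      simp only
      rw [show conjFun P g φ x = (μ ⟨g * x * g⁻¹, hm⟩ : ℂ) from
        (hμ ⟨g * x * g⁻¹, ‹P.Normal›.conj_mem _ x.2 g⟩).symm, ← Units.val_mul, ← map_mul]
      rfl
    · simp only [extendByZero_not_mem T θ hr, zero_mul]
      refine extendByZero_not_mem T θ fun h => hr ?_
      simpa [mul_assoc] using T.mul_mem h (T.inv_mem hm)
  have horth : ∀ g h : G, ∑ x : P, conjFun P g φ x * conj (conjFun P h φ x) =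
      if conjFun P g φ = conjFun P h φ then (Nat.card P : ℂ) else 0 := by
    intro g h
    have hi := irr_inner (isIrrCharacter_conjFun P g hφ) (isIrrCharacter_conjFun P h hφ)
    unfold classInner at hi
    have hq : (Nat.card P : ℂ) ≠ 0 := Nat.cast_ne_zero.mpr Nat.card_pos.ne'
    split_ifs at hi ⊢ with he
    · field_simp at hi
      exact hi
    · exact (mul_eq_zero.mp hi).resolve_left (inv_ne_zero hq)
  have hFc : ∀ g h : G, conjFun P g φ = conjFun P h φ → F h = F g := by
    intro g h he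
    have ht : h * g⁻¹ ∈ T := by
      subst hT
      show conjFun P (h * g⁻¹) φ = φ
      rw [conjFun_mul, ← he, ← conjFun_mul, mul_inv_cancel, conjFun_one]
    have e : h * r * h⁻¹ = (h * g⁻¹) * (g * r * g⁻¹) * (h * g⁻¹)⁻¹ := by group
    simp only [hF]
    rw [e, extendByZero_conj T hcl ht]
  have hFn : ∀ g : G, F g * conj (F g) = if g * r * g⁻¹ ∈ T then 1 else 0 := by
    intro g
    simp only [hF]
    split_ifs with h
    · rw [extendByZero_mem T θ h, Complex.mul_conj']
      have h1 : ‖(μ ⟨g * r * g⁻¹, h⟩ : ℂ)‖ = 1 := by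
        refine Complex.norm_eq_one_of_pow_eq_one (n := Nat.card T) ?_ Nat.card_pos.ne'
        rw [← Units.val_pow_eq_pow_val, ← map_pow, pow_card_eq_one', map_one, Units.val_one]
      simp [hθdef, h1]
    · rw [extendByZero_not_mem T θ h, zero_mul]
  have hc : (Nat.card T : ℂ) ≠ 0 := Nat.cast_ne_zero.mpr Nat.card_pos.ne'
  have hx : ∀ x : P, χ (r * x) = (Nat.card T : ℂ)⁻¹ * ∑ g : G, F g * conjFun P g φ x := by
    intro x
    rw [← hχ, indFun_apply', Finset.sum_congr rfl fun g _ => hval g x]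
  simp only [hx, map_mul, map_inv₀, Complex.conj_natCast, map_sum]
  calc (Nat.card T : ℂ) * ∑ x : P, (Nat.card T : ℂ)⁻¹ * (∑ g : G, F g * conjFun P g φ x) *
        ((Nat.card T : ℂ)⁻¹ * ∑ h : G, conj (F h) * conj (conjFun P h φ x))
      = (Nat.card T : ℂ)⁻¹ * ∑ g : G, ∑ h : G,
          F g * conj (F h) * ∑ x : P, conjFun P g φ x * conj (conjFun P h φ x) := by
        simp only [Finset.mul_sum, Finset.sum_mul]
        rw [Finset.sum_comm]
        refine (Finset.sum_congr rfl fun g _ => Finset.sum_comm).trans ?_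
        rw [Finset.sum_comm]
        refine Finset.sum_congr rfl fun g _ => Finset.sum_congr rfl fun h _ =>
          Finset.sum_congr rfl fun x _ => ?_
        field_simp
    _ = (Nat.card T : ℂ)⁻¹ * ∑ g : G, ((Nat.card T : ℂ) * (Nat.card P : ℂ)) *
          (if g * r * g⁻¹ ∈ T then 1 else 0) := by
        congr 1
        refine Finset.sum_congr rfl fun g _ => ?_
        simp only [horth, mul_ite, mul_zero]
        rw [← Finset.sum_filter, Finset.sum_congr rfl
          (g := fun _ => (if g * r * g⁻¹ ∈ T then (1 : ℂ) else 0) * (Nat.card P : ℂ))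
          fun h hh => by rw [← hFn g, hFc g h (Finset.mem_filter.mp hh).2],
          Finset.sum_const, nsmul_eq_mul]
        have hcard : (Finset.univ.filter fun h => conjFun P g φ = conjFun P h φ).card =
            Nat.card T := by
          rw [hT, ← card_conjFun_fiber P φ g]
          exact congrArg Finset.card (Finset.ext fun h => by simp [eq_comm])
        rw [hcard]
        split_ifs <;> ring
    _ = _ := by
        rw [← Finset.mul_sum, Finset.sum_boole]
        field_simp

end Cfsg.Agent.RootSingular
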